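import Cfsg.Agent.H15.T.Co1.D0

/-! Generated by tools/h0/tr.py. -/

set_option maxRecDepth 100000
set_option maxHeartbeats 0

namespace H15.XTCo1
open H16 H0.TR
open scoped Pointwise

theorem e_e1_1 : allZ (H15.CS.incEnt e_P (nat_lit 4560) (nat_lit 9) H15.XCo1C.B e_s) (nat_lit 192) (nat_lit 192) = true := by decide +kernel
theorem e_e1_2 : allZ (H15.CS.incEnt e_P (nat_lit 4560) (nat_lit 9) H15.XCo1C.B e_s) (nat_lit 384) (nat_lit 127) = true := by decide +kernel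
theorem e_e2_0 : allZ (H15.CS.esEnt e_P (nat_lit 4560) (nat_lit 9) H15.XCo1C.B e_s e_h) (nat_lit 0) (nat_lit 64) = true := by decide +kernel
theorem e_e2_1 : allZ (H15.CS.esEnt e_P (nat_lit 4560) (nat_lit 9) H15.XCo1C.B e_s e_h) (nat_lit 64) (nat_lit 64) = true := by decide +kernel
theorem e_e2_2 : allZ (H15.CS.esEnt e_P (nat_lit 4560) (nat_lit 9) H15.XCo1C.B e_s e_h) (nat_lit 128) (nat_lit 64) = true := by decide +kernel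
theorem e_e2_3 : allZ (H15.CS.esEnt e_P (nat_lit 4560) (nat_lit 9) H15.XCo1C.B e_s e_h) (nat_lit 192) (nat_lit 64) = true := by decide +kernel
theorem e_e2_4 : allZ (H15.CS.esEnt e_P (nat_lit 4560) (nat_lit 9) H15.XCo1C.B e_s e_h) (nat_lit 256) (nat_lit 64) = true := by decide +kernel
theorem e_e2_5 : allZ (H15.CS.esEnt e_P (nat_lit 4560) (nat_lit 9) H15.XCo1C.B e_s e_h) (nat_lit 320) (nat_lit 64) = true := by decide +kernel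
theorem e_e2_6 : allZ (H15.CS.esEnt e_P (nat_lit 4560) (nat_lit 9) H15.XCo1C.B e_s e_h) (nat_lit 384) (nat_lit 64) = true := by decide +kernel
theorem e_e2_7 : allZ (H15.CS.esEnt e_P (nat_lit 4560) (nat_lit 9) H15.XCo1C.B e_s e_h) (nat_lit 448) (nat_lit 64) = true := by decide +kernel
theorem e_e3 : H15.CS.bw 9 0 = [] ∧ H15.CS.bw 9 1 = [0] ∧ eqL e_P 9 H15.XCo1C.B [0, 0] [] = 0 ∧
    (ltAll 9 [0] = 0 ∧ ltAll 9 [] = 0 ∧ H15.CS.key e_P 4560 H15.XCo1C.B [0] ≠ H15.CS.key e_P 4560 H15.XCo1C.B []) ∧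
    ltAll 9 [1, 3] = 0 ∧ ltAll 9 [3, 1] = 0 ∧ H15.CS.key e_P 4560 H15.XCo1C.B [1, 3] ≠ H15.CS.key e_P 4560 H15.XCo1C.B [3, 1] := by decide +kernel
theorem e_z : Nat.add (ltAll 15 [nat_lit 3, nat_lit 4, nat_lit 3, nat_lit 4]) (sumL (fun β => Nat.xor (e_P 0 β) (apW H15.XCo1C.P [nat_lit 3, nat_lit 4, nat_lit 3, nat_lit 4] β)) H15.XCo1C.B) = 0 := by decide +kernel
theorem e_8 : H16.allL (ltAll 8) e_W = true := by decide +kernel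
theorem y_lt : H16.allL (ltAll 15) y_W = true := by decide +kernel
theorem y_k : allZ (fun j => Nat.add (ltAll 15 (nth [] y_W j))
    (fixL q_P 15 H15.XW8p.B (nth [] y_W j))) 0 9 = true := by decide +kernel
theorem ne : (ltAll 15 (nW) = 0 ∧ ltAll 15 ([]) = 0 ∧ H15.CS.key H15.XCo1C.P 4560 H15.XCo1C.B (nW) ≠ H15.CS.key H15.XCo1C.P 4560 H15.XCo1C.B ([])) ∧
    (ltAll 15 (nW) = 0 ∧ ltAll 15 (sub_Z) = 0 ∧ H15.CS.key H15.XCo1C.P 4560 H15.XCo1C.B (nW) ≠ H15.CS.key H15.XCo1C.P 4560 H15.XCo1C.B (sub_Z)) ∧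
    (ltAll 15 (qW) = 0 ∧ ltAll 15 (sub_Z) = 0 ∧ H15.CS.key H15.XCo1C.P 4560 H15.XCo1C.B (qW) ≠ H15.CS.key H15.XCo1C.P 4560 H15.XCo1C.B (sub_Z)) ∧
    (ltAll 15 ([0, 14]) = 0 ∧ ltAll 15 ([14, 0]) = 0 ∧ H15.CS.key H15.XCo1C.P 4560 H15.XCo1C.B ([0, 14]) ≠ H15.CS.key H15.XCo1C.P 4560 H15.XCo1C.B ([14, 0])) ∧
    (ltAll 15 ([0, 14]) = 0 ∧ ltAll 15 ([14, 0] ++ nW) = 0 ∧ H15.CS.key H15.XCo1C.P 4560 H15.XCo1C.B ([0, 14]) ≠ H15.CS.key H15.XCo1C.P 4560 H15.XCo1C.B ([14, 0] ++ nW)) ∧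
    (ltAll 15 ([0, 14]) = 0 ∧ ltAll 15 ([14, 0] ++ sub_Z) = 0 ∧ H15.CS.key H15.XCo1C.P 4560 H15.XCo1C.B ([0, 14]) ≠ H15.CS.key H15.XCo1C.P 4560 H15.XCo1C.B ([14, 0] ++ sub_Z)) ∧
    (ltAll 15 ([0, 14]) = 0 ∧ ltAll 15 ([14, 0] ++ sub_Z ++ nW) = 0 ∧ H15.CS.key H15.XCo1C.P 4560 H15.XCo1C.B ([0, 14]) ≠ H15.CS.key H15.XCo1C.P 4560 H15.XCo1C.B ([14, 0] ++ sub_Z ++ nW)) := by decide +kernel

end H15.XTCo1
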